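import Groth.Agent.FlatMor.NLComplex
import Groth.Agent.DRing.Homology
import Mathlib.RingTheory.Etale.Kaehler
import Mathlib.RingTheory.Smooth.Basic

/-!
# Quasi-isomorphisms of naive cotangent complexes
-/

set_option autoImplicit false
set_option backward.isDefEq.respectTransparency.types false

universe u

open CategoryTheory CategoryTheory.Limits TensorProduct Algebra.Extension
open Groth.Agent.DRing.Homology
attribute [local instance] HasDerivedCategory.standard

namespace Groth.Agent.NLBC

section Double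

variable {A : Type u} [CommRing A] {X₀ X₁ Y₀ Y₁ : ModuleCat.{u} A} {φ : X₀ ⟶ X₁} {ψ : Y₀ ⟶ Y₁}
  {h h' : (ComplexShape.up ℤ).Rel (-1) 0}

/-- A map of two-term complexes bijective on kernels and cokernels is a quasi-isomorphism. -/
theorem quasiIso_double (F : HomologicalComplex.double φ h ⟶ HomologicalComplex.double ψ h')
    (a : X₀ ⟶ Y₀) (b : X₁ ⟶ Y₁)
    (ha : F.f (-1) = (HomologicalComplex.doubleXIso₀ φ h).hom ≫ a ≫ (HomologicalComplex.doubleXIso₀ ψ h').inv)
    (hb : F.f 0 = (HomologicalComplex.doubleXIso₁ φ h (by decide)).hom ≫ b ≫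
      (HomologicalComplex.doubleXIso₁ ψ h' (by decide)).inv)
    (hi : ∀ x, φ x = 0 → a x = 0 → x = 0)
    (hs : ∀ y, ψ y = 0 → ∃ x, φ x = 0 ∧ a x = y)
    (hi' : ∀ x w, b x = ψ w → ∃ v, φ v = x)
    (hs' : ∀ y, ∃ x w, b x + ψ w = y) : QuasiIso F := by
  let K := HomologicalComplex.double φ h
  let L := HomologicalComplex.double ψ h'
  let e₀ := HomologicalComplex.doubleXIso₀ φ h
  let e₁ := HomologicalComplex.doubleXIso₁ φ h (by decide)
  let f₀ := HomologicalComplex.doubleXIso₀ ψ h'
  let f₁ := HomologicalComplex.doubleXIso₁ ψ h' (by decide)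
  have hK : ∀ z, (K.d (-1) 0).hom z = e₁.inv.hom (φ.hom (e₀.hom.hom z)) := fun z =>
    congrArg (fun g : K.X (-1) ⟶ K.X 0 => g.hom z) (HomologicalComplex.double_d φ h (by decide))
  have hL : ∀ z, (L.d (-1) 0).hom z = f₁.inv.hom (ψ.hom (f₀.hom.hom z)) := fun z =>
    congrArg (fun g : L.X (-1) ⟶ L.X 0 => g.hom z) (HomologicalComplex.double_d ψ h' (by decide))
  have hF₀ : ∀ z, (F.f (-1)).hom z = f₀.inv.hom (a.hom (e₀.hom.hom z)) := fun z =>
    congrArg (fun g : K.X (-1) ⟶ L.X (-1) => g.hom z) ha
  have hF₁ : ∀ z, (F.f 0).hom z = f₁.inv.hom (b.hom (e₁.hom.hom z)) := fun z =>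
    congrArg (fun g : K.X 0 ⟶ L.X 0 => g.hom z) hb
  have hcK : ∀ z, IsCyc K (-1) z ↔ φ.hom (e₀.hom.hom z) = 0 := fun z => by
    rw [isCyc_iff (show (-1 : ℤ) + 1 = 0 by norm_num), hK]
    exact ⟨fun h => e₁.toLinearEquiv.symm.injective (h.trans (map_zero _).symm), fun h => by rw [h, map_zero]⟩
  have hcL : ∀ z, IsCyc L (-1) z ↔ ψ.hom (f₀.hom.hom z) = 0 := fun z => by
    rw [isCyc_iff (show (-1 : ℤ) + 1 = 0 by norm_num), hL]
    exact ⟨fun h => f₁.toLinearEquiv.symm.injective (h.trans (map_zero _).symm), fun h => by rw [h, map_zero]⟩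
  refine quasiIso_of_bijective F fun i => ?_
  by_cases hm : i = -1
  · subst hm
    have hzL : Subsingleton (L.X (-2)) :=
      ModuleCat.subsingleton_of_isZero (HomologicalComplex.isZero_double_X ψ h' (-2) (by decide) (by decide))
    constructor
    · rw [homologyMap_injective_iff F (-1) (-2) (by norm_num)]
      intro e w he hew
      rw [hF₀, Subsingleton.elim w 0, map_zero] at hew
      refine ⟨0, ?_⟩
      have h1 : a.hom (e₀.hom.hom e) = 0 := f₀.toLinearEquiv.symm.injective (hew.trans (map_zero _).symm)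
      have h2 : e₀.hom.hom e = 0 := hi _ ((hcK e).1 he) h1
      rw [map_zero]
      exact (e₀.toLinearEquiv.injective (h2.trans (map_zero _).symm)).symm
    · rw [homologyMap_surjective_iff F (-1) (-2) (by norm_num)]
      intro z hz
      obtain ⟨x, hx, hax⟩ := hs _ ((hcL z).1 hz)
      refine ⟨e₀.inv.hom x, 0, ?_, ?_⟩
      · exact (hcK _).2 (by rw [e₀.inv_hom_id_apply x]; exact hx)
      · rw [map_zero, add_zero, hF₀, e₀.inv_hom_id_apply x]
        exact (congrArg f₀.inv.hom hax).trans (f₀.hom_inv_id_apply z)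
  by_cases h0 : i = 0
  · subst h0
    have hd : ∀ z, IsCyc K 0 z := fun z => by
      show (K.d 0 (0 + 1)).hom z = 0
      rw [HomologicalComplex.double_d_eq_zero₀ φ h _ _ (by decide)]
      rfl
    constructor
    · rw [homologyMap_injective_iff F 0 (-1) (by norm_num)]
      intro e w he hew
      rw [hF₁, hL] at hew
      obtain ⟨v, hv⟩ := hi' _ _ (f₁.toLinearEquiv.symm.injective hew)
      refine ⟨e₀.inv.hom v, ?_⟩
      rw [hK, e₀.inv_hom_id_apply v]
      exact (congrArg e₁.inv.hom hv).trans (e₁.hom_inv_id_apply e)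
    · rw [homologyMap_surjective_iff F 0 (-1) (by norm_num)]
      intro z _
      obtain ⟨x, w, hxw⟩ := hs' (f₁.hom.hom z)
      refine ⟨e₁.inv.hom x, f₀.inv.hom w, hd _, ?_⟩
      rw [hF₁, hL, e₁.inv_hom_id_apply x, f₀.inv_hom_id_apply w, ← map_add]
      exact (congrArg f₁.inv.hom hxw).trans (f₁.hom_inv_id_apply z)
  · have hzK : Subsingleton (K.homology i) :=
      ModuleCat.subsingleton_of_isZero (ShortComplex.isZero_homology_of_isZero_X₂ _
        (HomologicalComplex.isZero_double_X φ h i hm h0))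
    have hzL : Subsingleton (L.homology i) :=
      ModuleCat.subsingleton_of_isZero (ShortComplex.isZero_homology_of_isZero_X₂ _
        (HomologicalComplex.isZero_double_X ψ h' i hm h0))
    exact ⟨fun x y _ => Subsingleton.elim x y, fun y => ⟨0, Subsingleton.elim _ _⟩⟩

end Double

section Kaehler

variable {R R' S : Type u} [CommRing R] [CommRing R'] [CommRing S] [Algebra R S] [Algebra R' S]
  [Algebra R R'] [IsScalarTower R R' S]

theorem toKaehler_map {P : Algebra.Extension.{u} R S} {P' : Algebra.Extension.{u} R' S} (k : P.Hom P')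
    (y : P.CotangentSpace) :
    P'.toKaehler (CotangentSpace.map k y) = KaehlerDifferential.map R R' S S (P.toKaehler y) := by
  induction y using TensorProduct.induction_on with
  | zero => simp
  | add a b ha hb => simp only [map_add, ha, hb]
  | tmul s ω =>
    have hω : ω ∈ Submodule.span P.Ring (Set.range (KaehlerDifferential.D R P.Ring)) := by
      rw [KaehlerDifferential.span_range_derivation]; trivial
    induction hω using Submodule.span_induction generalizing s with
    | zero => simp
    | mem x hx =>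
      obtain ⟨p, rfl⟩ := hx
      simp [CotangentSpace.map_tmul]
    | add a b _ _ ha hb => simp only [tmul_add, map_add, ha, hb]
    | smul p x _ hx => rw [← TensorProduct.smul_tmul, hx]

/-- A map of presentations bijective on `H₁` and on differentials gives a quasi-isomorphism. -/
theorem quasiIso_map {P : Algebra.Extension.{u} R S} {P' : Algebra.Extension.{u} R' S} (k : P.Hom P')
    (hi : ∀ x, P.cotangentComplex x = 0 → Cotangent.map k x = 0 → x = 0)
    (hs : ∀ y, P'.cotangentComplex y = 0 → ∃ x, P.cotangentComplex x = 0 ∧ Cotangent.map k x = y)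
    (hΩ : Function.Bijective (KaehlerDifferential.map R R' S S)) : QuasiIso (NLCx.map k) := by
  refine quasiIso_double _ (ModuleCat.ofHom (Cotangent.map k)) (ModuleCat.ofHom (CotangentSpace.map k))
    (map_f₀ k) (map_f₁ k) hi hs (fun x w hxw => ?_) fun y => ?_
  · refine (exact_cotangentComplex_toKaehler (P := P) x).1 (hΩ.1 ?_)
    rw [map_zero, ← toKaehler_map k x]
    exact (exact_cotangentComplex_toKaehler (P := P') _).2 ⟨w, hxw.symm⟩
  · obtain ⟨ω, hω⟩ := hΩ.2 (P'.toKaehler y)
    obtain ⟨x, rfl⟩ := toKaehler_surjective (P := P) ω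
    rw [← toKaehler_map k x] at hω
    obtain ⟨w, hw⟩ := (exact_cotangentComplex_toKaehler (P := P') (y - CotangentSpace.map k x)).1
      (by rw [map_sub, hω, sub_self])
    exact ⟨x, w, add_eq_of_eq_sub' hw⟩

end Kaehler

section Comp

variable {R S R' R'' S' : Type u} [CommRing R] [CommRing S] [CommRing R'] [CommRing R''] [CommRing S']
  [Algebra R S] [Algebra R' S'] [Algebra R'' S'] [Algebra R R'] [Algebra R R''] [Algebra R' R'']
  [IsScalarTower R R' R''] [Algebra S S'] [Algebra R S'] [IsScalarTower R R' S'] [IsScalarTower R R'' S']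
  [IsScalarTower R' R'' S'] [IsScalarTower R S S']

/-- Composition of base change with a change of the base ring. -/
theorem bcMap_comp_map {P : Algebra.Extension.{u} R S} {P' : Algebra.Extension.{u} R' S'}
    {P'' : Algebra.Extension.{u} R'' S'} (f : P.Hom P') (g : P'.Hom P'') :
    NLCx.bcMap (g.comp f) = NLCx.bcMap f ≫ NLCx.map g := by
  refine HomologicalComplex.from_double_hom_ext ?_ ?_
  · rw [HomologicalComplex.comp_f, bcMap_f₀, bcMap_f₀, map_f₀]
    simp only [NLCx.cx, NLCx.bcCx, Category.assoc, Iso.inv_hom_id_assoc]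
    rw [← ofHom_comp_assoc']
    congr 3
    refine TensorProduct.AlgebraTensorModule.ext fun a x ↦ ?_
    simp [Algebra.Extension.Cotangent.map_comp]
  · rw [HomologicalComplex.comp_f, bcMap_f₁, bcMap_f₁, map_f₁]
    simp only [NLCx.cx, NLCx.bcCx, Category.assoc, Iso.inv_hom_id_assoc]
    rw [← ofHom_comp_assoc']
    congr 3
    refine TensorProduct.AlgebraTensorModule.ext fun a x ↦ ?_
    simp [Algebra.Extension.CotangentSpace.map_comp]

end Comp

end Groth.Agent.NLBC
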