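import Groth.Agent.FlatMor.NLEtale.Main
import Groth.Agent.S13598
import Groth.Agent.S5072
import Groth.Agent.Hens.Local
import Groth.Agent.Hens.Unique
import Groth.Agent.EtAlgPair.FormallyEtale

/-!
# Naive cotangent complexes and henselizations
-/

set_option autoImplicit false
set_option backward.isDefEq.respectTransparency.types false

universe u

open CategoryTheory IsLocalRing TensorProduct
attribute [local instance] HasDerivedCategory.standard

namespace Groth.Agent.NLBC

section Quot

variable {L B : Type u} [CommRing L] [IsLocalRing L] [CommRing B] [IsLocalRing B] [Algebra L B]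
  [IsLocalHom (algebraMap L B)]

/-- The henselization of a quotient is a quotient of the henselization. -/
theorem exists_hens_quot (hsurj : Function.Surjective (algebraMap L B)) (Bh : Type u) [CommRing Bh]
    [IsLocalRing Bh] [Algebra B Bh] [IsLocalHom (algebraMap B Bh)] [hB : Hensel.IsHenselization B Bh] :
    ∃ g : Hens.Henselization L →+* Bh, (∀ l, g (algebraMap L _ l) = algebraMap B Bh (algebraMap L B l)) ∧
      Function.Surjective g ∧
      RingHom.ker g ≤ (RingHom.ker (algebraMap L B)).map (algebraMap L (Hens.Henselization L)) := by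
  let Q := Hens.Henselization L
  let J := RingHom.ker (algebraMap L B)
  let JQ := J.map (algebraMap L Q)
  have hJ : J ≤ maximalIdeal L := fun l hl hu => by
    have := hu.map (algebraMap L B)
    rw [RingHom.mem_ker.1 hl] at this
    exact not_isUnit_zero this
  have hJQ : JQ ≠ ⊤ := fun h => (maximalIdeal.isMaximal Q).ne_top (top_le_iff.1 (h ▸
    Ideal.map_le_iff_le_comap.2 (hJ.trans (maximalIdeal_comap (algebraMap L Q)).ge)))
  haveI : Nontrivial (Q ⧸ JQ) := Ideal.Quotient.nontrivial_iff.mpr hJQ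
  haveI : Nontrivial (L ⧸ J) := Ideal.Quotient.nontrivial_iff.mpr fun h =>
    (maximalIdeal.isMaximal L).ne_top (top_le_iff.1 (h ▸ hJ))
  haveI : IsLocalRing (Q ⧸ JQ) := .of_surjective' (Ideal.Quotient.mk JQ) Ideal.Quotient.mk_surjective
  haveI : IsLocalRing (L ⧸ J) := .of_surjective' (Ideal.Quotient.mk J) Ideal.Quotient.mk_surjective
  haveI : IsLocalHom (Ideal.Quotient.mk JQ) := .of_surjective _ Ideal.Quotient.mk_surjective
  haveI : IsLocalHom (algebraMap (L ⧸ J) (Q ⧸ JQ)) := ⟨fun a ha => by
    obtain ⟨a, rfl⟩ := Ideal.Quotient.mk_surjective a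
    exact (isUnit_of_map_unit (algebraMap L Q) a
      (isUnit_of_map_unit (Ideal.Quotient.mk JQ) _ ha)).map _⟩
  have hH : Hensel.IsHenselization (L ⧸ J) (Q ⧸ JQ) := Groth.Agent.S13598.result J hJ
  haveI := hH.henselian
  let f₀ : L →+* Q ⧸ JQ := (Ideal.Quotient.mk JQ).comp (algebraMap L Q)
  haveI : IsLocalHom f₀ := RingHom.isLocalHom_comp _ _
  let β : B →+* Q ⧸ JQ := (algebraMap L B).liftOfSurjective hsurj ⟨f₀, fun l hl =>
    RingHom.mem_ker.2 (Ideal.Quotient.eq_zero_iff_mem.2 (Ideal.mem_map_of_mem _ hl))⟩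
  have hβ : ∀ l, β (algebraMap L B l) = f₀ l := fun l =>
    RingHom.liftOfRightInverse_comp_apply _ _ (Function.rightInverse_surjInv hsurj) _ l
  haveI : IsLocalHom β := ⟨fun b hb => by
    obtain ⟨l, rfl⟩ := hsurj b
    rw [hβ] at hb
    exact (isUnit_of_map_unit f₀ l hb).map _⟩
  haveI := hB.henselian
  obtain ⟨h, hh, -⟩ := hB.universal (Q ⧸ JQ) β inferInstance
  let f : L →+* Bh := (algebraMap B Bh).comp (algebraMap L B)
  obtain ⟨g, hg, -⟩ := (Hens.isHenselization_henselization (R := L)).universal Bh f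
    (RingHom.isLocalHom_comp _ _)
  have hgJ : ∀ x ∈ JQ, g x = 0 := fun x hx =>
    (Ideal.map_le_iff_le_comap (K := RingHom.ker g)).2 (fun l hl => by
      show g (algebraMap L Q l) = 0
      rw [← RingHom.comp_apply, hg, RingHom.comp_apply, RingHom.mem_ker.1 hl, map_zero]) hx
  let gb : Q ⧸ JQ →+* Bh := Ideal.Quotient.lift JQ g hgJ
  have h1 : gb.comp h = RingHom.id Bh := by
    obtain ⟨w, -, hw⟩ := hB.universal Bh (algebraMap B Bh) inferInstance
    refine (hw _ (RingHom.ext fun b => ?_)).trans (hw _ (RingHom.id_comp _)).symm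
    obtain ⟨l, rfl⟩ := hsurj b
    show gb (h (algebraMap B Bh (algebraMap L B l))) = _
    rw [show h (algebraMap B Bh (algebraMap L B l)) = β (algebraMap L B l) from RingHom.congr_fun hh _, hβ]
    exact RingHom.congr_fun hg l
  have h2 : h.comp g = Ideal.Quotient.mk JQ := by
    obtain ⟨w, -, hw⟩ := (Hens.isHenselization_henselization (R := L)).universal (Q ⧸ JQ) f₀ inferInstance
    refine (hw _ (RingHom.ext fun l => ?_)).trans (hw _ rfl).symm
    show h (g (algebraMap L Q l)) = f₀ l
    rw [show g (algebraMap L Q l) = f l from RingHom.congr_fun hg l,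
      show h (f l) = β (algebraMap L B l) from RingHom.congr_fun hh _, hβ]
  refine ⟨g, fun l => RingHom.congr_fun hg l, fun y => ?_, fun x hx => ?_⟩
  · obtain ⟨q, hq⟩ := Ideal.Quotient.mk_surjective (h y)
    refine ⟨q, ?_⟩
    have := RingHom.congr_fun h1 y
    rw [RingHom.comp_apply, ← hq] at this
    exact this
  · refine Ideal.Quotient.eq_zero_iff_mem.1 ?_
    rw [← h2, RingHom.comp_apply, RingHom.mem_ker.1 hx, map_zero]

/-- The strict henselization of a quotient is a quotient of the strict henselization. -/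
theorem exists_strictHens_quot (hsurj : Function.Surjective (algebraMap L B)) (Bsh : Type u) [CommRing Bsh]
    [IsLocalRing Bsh] [Algebra B Bsh] [IsLocalHom (algebraMap B Bsh)] [Hensel.IsStrictHenselization B Bsh] :
    ∃ g : Hens.StrictHenselization L →+* Bsh,
      (∀ l, g (algebraMap L _ l) = algebraMap B Bsh (algebraMap L B l)) ∧ Function.Surjective g ∧
      RingHom.ker g ≤ (RingHom.ker (algebraMap L B)).map (algebraMap L (Hens.StrictHenselization L)) := by
  let Q := Hens.StrictHenselization L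
  haveI : Module.Finite L B := Module.Finite.of_surjective (Algebra.linearMap L B) hsurj
  obtain ⟨q, hq, ⟨e⟩⟩ := Groth.Agent.S5072.result L B Q Bsh
  let ι : Q →+* B ⊗[L] Q := (Algebra.TensorProduct.includeRight : Q →ₐ[L] B ⊗[L] Q).toRingHom
  have hι : Function.Surjective ι := fun x => by
    induction x with
    | zero => exact ⟨0, map_zero _⟩
    | tmul b s =>
      obtain ⟨l, rfl⟩ := hsurj b
      refine ⟨l • s, ?_⟩
      show (1 : B) ⊗ₜ[L] (l • s) = _
      rw [← TensorProduct.smul_tmul, Algebra.smul_def, mul_one]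
    | add x y hx hy =>
      obtain ⟨a, rfl⟩ := hx
      obtain ⟨b, rfl⟩ := hy
      exact ⟨a + b, map_add _ _ _⟩
  haveI : Nontrivial (B ⊗[L] Q) := nontrivial_of_ne (1 : B ⊗[L] Q) 0 fun h =>
    hq.ne_top ((Ideal.eq_top_iff_one q).2 (h ▸ q.zero_mem))
  haveI : IsLocalRing (B ⊗[L] Q) := .of_surjective' ι hι
  have hbij : Function.Bijective (algebraMap (B ⊗[L] Q) (Localization.AtPrime q)) := by
    refine (IsLocalization.atUnits (B ⊗[L] Q) q.primeCompl (fun x hx => ?_)).bijective
    exact IsLocalRing.notMem_maximalIdeal.1 fun h => hx (by rwa [eq_maximalIdeal hq])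
  let ψ : B ⊗[L] Q →+* Bsh := e.toRingEquiv.toRingHom.comp (algebraMap (B ⊗[L] Q) (Localization.AtPrime q))
  have hψ : Function.Bijective ψ := e.bijective.comp hbij
  let g : Q →+* Bsh := ψ.comp ι
  refine ⟨g, fun l => ?_, hψ.2.comp hι, fun x hx => ?_⟩
  · show ψ (ι (algebraMap L Q l)) = _
    rw [show ι (algebraMap L Q l) = algebraMap B (B ⊗[L] Q) (algebraMap L B l) from
      ((Algebra.TensorProduct.includeRight : Q →ₐ[L] B ⊗[L] Q).commutes l).trans
        (IsScalarTower.algebraMap_apply L B (B ⊗[L] Q) l)]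
    show e (algebraMap (B ⊗[L] Q) (Localization.AtPrime q) (algebraMap B (B ⊗[L] Q) _)) = _
    rw [← IsScalarTower.algebraMap_apply, e.commutes]
  · let JQ := (RingHom.ker (algebraMap L B)).map (algebraMap L Q)
    let fB : B →ₐ[L] Q ⧸ JQ := AlgHom.liftOfSurjective (Algebra.ofId L B) hsurj (Algebra.ofId L (Q ⧸ JQ))
      (fun l hl => RingHom.mem_ker.2 (Ideal.Quotient.eq_zero_iff_mem.2 (Ideal.mem_map_of_mem _ hl)))
    let Φ : B ⊗[L] Q →ₐ[L] Q ⧸ JQ :=
      Algebra.TensorProduct.lift fB (Ideal.Quotient.mkₐ L JQ) fun _ _ => Commute.all _ _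
    have h0 : ι x = 0 := hψ.1 ((RingHom.mem_ker.1 hx).trans (map_zero ψ).symm)
    have h1 := congrArg Φ h0
    rw [map_zero] at h1
    refine Ideal.Quotient.eq_zero_iff_mem.1 (Eq.trans ?_ h1)
    show _ = Φ ((1 : B) ⊗ₜ[L] x)
    rw [Algebra.TensorProduct.lift_tmul, map_one, one_mul]
    rfl

end Quot

section Main

variable {A B : Type u} [CommRing A] [CommRing B] [IsLocalRing B] [Algebra A B]

/-- The lifting data for a flat formally étale local extension. -/
theorem quasiIso_of_quot (Bh : Type u) [CommRing Bh] [Algebra B Bh] [Algebra A Bh] [IsScalarTower A B Bh]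
    (H : ∀ (L : Type u) [CommRing L] [IsLocalRing L] [Algebra L B] [IsLocalHom (algebraMap L B)],
      Function.Surjective (algebraMap L B) →
      ∃ (Q : Type u) (_ : CommRing Q) (_ : Algebra L Q) (g : Q →+* Bh), Algebra.FormallyEtale L Q ∧
        Module.Flat L Q ∧ (∀ l, g (algebraMap L Q l) = algebraMap B Bh (algebraMap L B l)) ∧
        Function.Surjective g ∧ RingHom.ker g ≤ (RingHom.ker (algebraMap L B)).map (algebraMap L Q)) :
    QuasiIso (NLCx.bcMapSelf A B A Bh) := by
  let E := (Algebra.Generators.self A B).toExtension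
  let q : Ideal E.Ring := (maximalIdeal B).comap (algebraMap E.Ring B)
  haveI : q.IsPrime := Ideal.comap_isPrime _ _
  let L := Localization.AtPrime q
  have hu : ∀ y : q.primeCompl, IsUnit (algebraMap E.Ring B y) := fun y =>
    IsLocalRing.notMem_maximalIdeal.1 y.2
  letI : Algebra L B := (IsLocalization.lift (S := L) hu).toAlgebra
  have hLB : ∀ x, algebraMap L B (algebraMap E.Ring L x) = algebraMap E.Ring B x := fun x =>
    IsLocalization.lift_eq hu x
  have hsurj : Function.Surjective (algebraMap L B) := fun b =>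
    ⟨algebraMap E.Ring L (E.σ b), (hLB _).trans (E.algebraMap_σ b)⟩
  haveI : IsLocalHom (algebraMap L B) := ⟨fun z hz => by
    obtain ⟨x, s, rfl⟩ := IsLocalization.exists_mk'_eq q.primeCompl z
    rw [IsLocalization.AtPrime.isUnit_mk'_iff]
    intro hx
    have h : algebraMap L B (IsLocalization.mk' L x s) * algebraMap E.Ring B s = algebraMap E.Ring B x := by
      rw [← hLB s, ← map_mul, IsLocalization.mk'_spec, hLB]
    exact (IsLocalRing.mem_maximalIdeal _).1 hx (h ▸ hz.mul (hu s))⟩
  obtain ⟨Q, _, _, g, hFE, hflat, hg, hgs, hker⟩ := H L hsurj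
  letI : Algebra E.Ring Q := ((algebraMap L Q).comp (algebraMap E.Ring L)).toAlgebra
  haveI : IsScalarTower E.Ring L Q := .of_algebraMap_eq' rfl
  letI : Algebra A Q := ((algebraMap E.Ring Q).comp (algebraMap A E.Ring)).toAlgebra
  haveI : IsScalarTower A E.Ring Q := .of_algebraMap_eq' rfl
  haveI : Algebra.FormallyEtale E.Ring L := .of_isLocalization (M := q.primeCompl) (Rₘ := L)
  haveI : Algebra.FormallyEtale E.Ring Q := .comp E.Ring L Q
  haveI : Module.Flat E.Ring L := IsLocalization.flat L q.primeCompl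
  haveI : Module.Flat E.Ring Q := Module.Flat.trans E.Ring L Q
  have hgP : ∀ x, g (algebraMap E.Ring Q x) = algebraMap B Bh (algebraMap E.Ring B x) := fun x =>
    (hg _).trans (congrArg _ (hLB x))
  let φ : Q →ₐ[A] Bh :=
    { g with
      commutes' := fun a => (hgP _).trans (by
        rw [← IsScalarTower.algebraMap_apply A E.Ring B, ← IsScalarTower.algebraMap_apply A B Bh]) }
  refine quasiIso_bcMapSelf_of_extension Q φ hgs hgP fun x hx => ?_
  have hle : (RingHom.ker (algebraMap L B)).map (algebraMap L Q) ≤ E.ker.map (algebraMap E.Ring Q) := by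
    rw [IsScalarTower.algebraMap_eq E.Ring L Q, ← Ideal.map_map]
    refine Ideal.map_mono fun z hz => ?_
    obtain ⟨x, s, rfl⟩ := IsLocalization.exists_mk'_eq q.primeCompl z
    rw [IsLocalization.mk'_mem_map_algebraMap_iff q.primeCompl]
    refine ⟨1, one_mem _, ?_⟩
    rw [one_mul]
    show algebraMap E.Ring B x = 0
    rw [← hLB, ← IsLocalization.mk'_spec L x s, map_mul, RingHom.mem_ker.1 hz, zero_mul]
  exact hle (hker hx)

/-- The henselization. -/
theorem quasiIso_henselization (Bh : Type u) [CommRing Bh] [IsLocalRing Bh] [Algebra B Bh]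
    [IsLocalHom (algebraMap B Bh)] [Hensel.IsHenselization B Bh] [Algebra A Bh] [IsScalarTower A B Bh] :
    QuasiIso (NLCx.bcMapSelf A B A Bh) :=
  quasiIso_of_quot Bh fun L _ _ _ _ hs =>
    have ⟨g, h1, h2, h3⟩ := exists_hens_quot hs Bh
    ⟨Hens.Henselization L, inferInstance, inferInstance, g,
      EtAlgPair.formallyEtale_etLoc L (ResidueField L), inferInstance, h1, h2, h3⟩

/-- The strict henselization. -/
theorem quasiIso_strictHenselization (Bh : Type u) [CommRing Bh] [IsLocalRing Bh] [Algebra B Bh]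
    [IsLocalHom (algebraMap B Bh)] [Hensel.IsStrictHenselization B Bh] [Algebra A Bh] [IsScalarTower A B Bh] :
    QuasiIso (NLCx.bcMapSelf A B A Bh) :=
  quasiIso_of_quot Bh fun L _ _ _ _ hs =>
    have ⟨g, h1, h2, h3⟩ := exists_strictHens_quot hs Bh
    ⟨Hens.StrictHenselization L, inferInstance, inferInstance, g,
      EtAlgPair.formallyEtale_etLoc L (SeparableClosure (ResidueField L)), inferInstance, h1, h2, h3⟩

end Main

end Groth.Agent.NLBC
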