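import Groth.Agent.FlatMor.NLEtale.Criterion
import Mathlib.RingTheory.Kaehler.JacobiZariski
import Mathlib.RingTheory.Etale.Basic

/-!
# Naive cotangent complexes along formally étale maps
-/

set_option autoImplicit false
set_option backward.isDefEq.respectTransparency.types false

universe u

open CategoryTheory CategoryTheory.Limits TensorProduct
attribute [local instance] HasDerivedCategory.standard

namespace Groth.Agent.NLBC

theorem quasiIso_of_homotopy {A : Type u} [CommRing A] {K L : DRing.Cx A} {f g : K ⟶ L} (h : Homotopy f g)
    [QuasiIso g] : QuasiIso f := by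
  rw [quasiIso_iff]
  intro i
  rw [quasiIsoAt_iff_isIso_homologyMap, h.homologyMap_eq]
  exact (quasiIsoAt_iff_isIso_homologyMap g i).1 inferInstance

theorem kaehlerMap_self (R S : Type u) [CommRing R] [CommRing S] [Algebra R S] (ω : Ω[S⁄R]) :
    KaehlerDifferential.map R R S S ω = ω := by
  have hω : ω ∈ Submodule.span S (Set.range (KaehlerDifferential.D R S)) := by
    rw [KaehlerDifferential.span_range_derivation]; trivial
  induction hω using Submodule.span_induction with
  | zero => simp
  | mem x hx =>
    obtain ⟨p, rfl⟩ := hx
    simp [KaehlerDifferential.map_D]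
  | add a b _ _ ha hb => simp only [map_add, ha, hb]
  | smul p x _ hx => simp only [map_smul, hx]

section Lift

variable {R S T : Type u} [CommRing R] [CommRing S] [CommRing T] [Algebra R S] [Algebra S T] [Algebra R T]
  [IsScalarTower R S T]

/-- If the presentation of `S` lifts to a flat formally étale extension with top `T`, the naive cotangent
complex base changes to `T`. -/
theorem quasiIso_bcMapSelf_of_extension (Q : Type u) [CommRing Q] [Algebra R Q]
    [Algebra (Algebra.Generators.self R S).toExtension.Ring Q]
    [IsScalarTower R (Algebra.Generators.self R S).toExtension.Ring Q]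
    [Algebra.FormallyEtale (Algebra.Generators.self R S).toExtension.Ring Q]
    [Module.Flat (Algebra.Generators.self R S).toExtension.Ring Q]
    (φ : Q →ₐ[R] T) (hφ : Function.Surjective φ)
    (hcomp : ∀ x, φ (algebraMap (Algebra.Generators.self R S).toExtension.Ring Q x) =
      algebraMap S T (algebraMap (Algebra.Generators.self R S).toExtension.Ring S x))
    (hker : RingHom.ker φ.toRingHom ≤
      (Algebra.Generators.self R S).toExtension.ker.map (algebraMap _ Q)) :
    QuasiIso (NLCx.bcMapSelf R S R T) := by
  let G := Algebra.Generators.self R S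
  let P := G.toExtension
  let E : Algebra.Extension.{u} R T := Algebra.Extension.ofSurjective φ hφ
  have hFS : Algebra.FormallySmooth R P.Ring :=
    inferInstanceAs (Algebra.FormallySmooth R (MvPolynomial S R))
  have hQ : Algebra.FormallySmooth R E.Ring := Algebra.FormallySmooth.comp R P.Ring Q
  let f : P.Hom E :=
    { toRingHom := algebraMap P.Ring Q
      toRingHom_algebraMap := fun x => (IsScalarTower.algebraMap_apply R P.Ring Q x).symm
      algebraMap_toRingHom := hcomp }
  letI : Algebra P.Ring E.Ring := ‹Algebra P.Ring Q›
  have hf : f.toRingHom.FormallyEtale :=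
    RingHom.formallyEtale_algebraMap.mpr ‹Algebra.FormallyEtale P.Ring Q›
  have hk : ∀ z : E.Ring ⊗[P.Ring] P.ker,
      (((f.mapKer rfl).liftBaseChange E.Ring z : E.ker) : E.Ring) =
        TensorProduct.rid P.Ring E.Ring ((P.ker.subtype).lTensor E.Ring z) := fun z => by
    induction z with
    | zero => simp
    | tmul q x =>
      simp only [LinearMap.liftBaseChange_tmul, LinearMap.lTensor_tmul, TensorProduct.rid_tmul,
        Submodule.coe_subtype, Algebra.smul_def, mul_comm q]
      exact mul_comm (q : Q) (algebraMap P.Ring Q x.1)
    | add a b ha hb => simp only [map_add, Submodule.coe_add, ha, hb]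
  have hH : Function.Bijective ((f.mapKer rfl).liftBaseChange E.Ring) := by
    refine ⟨fun a b hab => ?_, fun y => ?_⟩
    · haveI : Module.Flat P.Ring E.Ring := ‹Module.Flat P.Ring Q›
      apply Module.Flat.lTensor_preserves_injective_linearMap (M := E.Ring) P.ker.subtype Subtype.val_injective
      apply (TensorProduct.rid P.Ring E.Ring).injective
      rw [← hk, ← hk, hab]
    · obtain ⟨y, hy⟩ := y
      have hy' : y ∈ P.ker.map (algebraMap P.Ring E.Ring) := hker hy
      suffices h : ∃ z, (((f.mapKer rfl).liftBaseChange E.Ring z : E.ker) : E.Ring) = y by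
        obtain ⟨z, hz⟩ := h
        exact ⟨z, Subtype.ext hz⟩
      clear hy
      induction hy' using Submodule.span_induction with
      | mem a ha =>
        obtain ⟨b, hb, rfl⟩ := ha
        exact ⟨1 ⊗ₜ ⟨b, hb⟩, by simp; rfl⟩
      | zero => exact ⟨0, by simp⟩
      | add a b _ _ ha hb =>
        obtain ⟨z, rfl⟩ := ha
        obtain ⟨w, rfl⟩ := hb
        exact ⟨z + w, by simp⟩
      | smul q a _ ha =>
        obtain ⟨z, rfl⟩ := ha
        exact ⟨q • z, by simp⟩
  haveI : IsIso (NLCx.bcMap (S' := T) f) := isIso_bcMap f
    (Algebra.Extension.tensorCotangent f rfl hH).bijective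
    (Algebra.Extension.tensorCotangentSpaceOfFormallyEtale f hf).bijective
  let T' := Algebra.Generators.self R T
  let f₀ : P.Hom T'.toExtension := (G.defaultHom T').toExtensionHom
  let k : T'.toExtension.Hom E := E.defaultHom
  have hT' : Algebra.FormallySmooth R T'.toExtension.Ring :=
    inferInstanceAs (Algebra.FormallySmooth R (MvPolynomial T R))
  haveI : QuasiIso (NLCx.map k) := by
    let e := Algebra.Extension.H1Cotangent.equivOfFormallySmooth T'.toExtension E
    have he : ∀ x, e x = Algebra.Extension.H1Cotangent.map k x :=
      Algebra.Extension.H1Cotangent.equivOfFormallySmooth_apply k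
    refine quasiIso_map k (fun x hx hkx => ?_) (fun y hy => ?_)
      ⟨fun a b h => by rwa [kaehlerMap_self, kaehlerMap_self] at h, fun y => ⟨y, kaehlerMap_self R T y⟩⟩
    · have h0 : e ⟨x, hx⟩ = 0 := (he _).trans (Subtype.ext hkx)
      exact congrArg Subtype.val (e.injective (h0.trans (map_zero e).symm))
    · obtain ⟨x, hx⟩ := e.surjective ⟨y, hy⟩
      exact ⟨x.1, x.2, congrArg Subtype.val ((he x).symm.trans hx)⟩
  haveI : QuasiIso (NLCx.bcMapSelf R S R T ≫ NLCx.map k) := by
    change QuasiIso (NLCx.bcMap (S' := T) f₀ ≫ NLCx.map k)
    rw [← bcMap_comp f₀ k]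
    exact quasiIso_of_homotopy (bcMapHomotopy (k.comp f₀) f)
  exact quasiIso_of_comp_right (NLCx.bcMapSelf R S R T) (NLCx.map k)

end Lift

section Base

variable {R R' T : Type u} [CommRing R] [CommRing R'] [CommRing T] [Algebra R R'] [Algebra R' T] [Algebra R T]
  [IsScalarTower R R' T] [Algebra.FormallyEtale R R']

open Algebra.Generators in
/-- A formally étale change of the base is a quasi-isomorphism. -/
theorem quasiIso_map_self :
    QuasiIso (NLCx.map ((Algebra.Generators.self R T).defaultHom (Algebra.Generators.self R' T)).toExtensionHom) := by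
  let P := Algebra.Generators.self R R'
  let Q := Algebra.Generators.self R' T
  let W := Algebra.Generators.self R T
  let k := (W.defaultHom Q).toExtensionHom
  have hd : Function.Bijective P.toExtension.cotangentComplex := by
    refine ⟨?_, fun y => ?_⟩
    · have hP : Algebra.FormallySmooth R P.toExtension.Ring :=
        inferInstanceAs (Algebra.FormallySmooth R (MvPolynomial R' R))
      exact (P.toExtension.cotangentComplex_injective_iff).2 inferInstance
    · exact (Algebra.Extension.exact_cotangentComplex_toKaehler (P := P.toExtension) y).1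
        (Subsingleton.elim _ _)
  have hinj : ∀ z : T ⊗[R'] P.toExtension.Cotangent,
      P.toExtension.cotangentComplex.baseChange T z = 0 → z = 0 := fun z hz => by
    refine (LinearEquiv.baseChange R' T P.toExtension.Cotangent P.toExtension.CotangentSpace
      (LinearEquiv.ofBijective P.toExtension.cotangentComplex hd)).injective ?_
    rw [map_zero]
    exact hz
  refine quasiIso_map k (fun x hx hkx => ?_) (fun y hy => ?_) ?_
  · let e := Algebra.Generators.H1Cotangent.equiv W (Q.comp P)
    let w := e ⟨x, hx⟩
    have hw : Algebra.Extension.H1Cotangent.map (Q.ofComp P).toExtensionHom w = 0 := by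
      have h1 : Algebra.Extension.H1Cotangent.map (Q.ofComp P).toExtensionHom w =
          Algebra.Extension.H1Cotangent.map k ⟨x, hx⟩ := by
        show Algebra.Extension.H1Cotangent.map (Q.ofComp P).toExtensionHom
          (Algebra.Extension.H1Cotangent.map (W.defaultHom (Q.comp P)).toExtensionHom ⟨x, hx⟩) = _
        rw [Algebra.Extension.H1Cotangent.map_eq k
          ((Q.ofComp P).toExtensionHom.comp (W.defaultHom (Q.comp P)).toExtensionHom),
          Algebra.Extension.H1Cotangent.map_comp]
        rfl
      exact h1.trans (Subtype.ext hkx)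
    obtain ⟨z, hz⟩ := (Algebra.Generators.Cotangent.exact Q P w.1).1 (congrArg Subtype.val hw)
    have hz0 : P.toExtension.cotangentComplex.baseChange T z = 0 := by
      apply Algebra.Generators.CotangentSpace.map_toComp_injective Q P
      rw [map_zero, ← LinearMap.comp_apply,
        Algebra.Generators.H1Cotangent.map_comp_cotangentComplex_baseChange, LinearMap.comp_apply, hz]
      exact w.2
    rw [hinj z hz0, map_zero] at hz
    have hw0 : w = 0 := Subtype.ext hz.symm
    exact congrArg Subtype.val (e.injective (hw0.trans (map_zero e).symm))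
  · have : Subsingleton (T ⊗[R'] Ω[R'⁄R]) := inferInstance
    obtain ⟨x, hx⟩ := ((Algebra.H1Cotangent.exact_map_δ R R' T ⟨y, hy⟩)).1 (Subsingleton.elim _ _)
    exact ⟨x.1, x.2, congrArg Subtype.val hx⟩
  · refine ⟨?_, KaehlerDifferential.map_surjective R R' T⟩
    rw [injective_iff_map_eq_zero]
    intro x hx
    obtain ⟨w, rfl⟩ := (KaehlerDifferential.exact_mapBaseChange_map R R' T x).1 hx
    rw [Subsingleton.elim w 0, map_zero]

end Base

section Compose

variable {R S R' S' : Type u} [CommRing R] [CommRing S] [CommRing R'] [CommRing S'] [Algebra R S]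
  [Algebra R' S'] [Algebra R R'] [Algebra S S'] [Algebra R S'] [IsScalarTower R R' S'] [IsScalarTower R S S']
  [Algebra.FormallyEtale R R']

/-- Base change along a square whose bottom map is formally étale reduces to the change of the top ring. -/
theorem quasiIso_bcMapSelf_of_top (h : QuasiIso (NLCx.bcMapSelf R S R S')) :
    QuasiIso (NLCx.bcMapSelf R S R' S') := by
  let k := ((Algebra.Generators.self R S').defaultHom (Algebra.Generators.self R' S')).toExtensionHom
  let f₀ := ((Algebra.Generators.self R S).defaultHom (Algebra.Generators.self R S')).toExtensionHom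
  have := quasiIso_map_self (R := R) (R' := R') (T := S')
  have hq : QuasiIso (NLCx.bcMap (S' := S') (k.comp f₀)) := by
    rw [bcMap_comp_map f₀ k]
    exact @quasiIso_comp _ _ _ _ _ _ _ _ (NLCx.bcMap (S' := S') f₀) (NLCx.map k) _ _ _ h this
  exact quasiIso_of_homotopy (bcMapHomotopy _ (k.comp f₀))

end Compose

end Groth.Agent.NLBC
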